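import Groth.Agent.Lib.NormStalk17.Scheme
import Groth.Agent.Lib.StabUniq18.Stalk
import Groth.Agent.Lib.CurveCoh17.Birational
import Groth.Agent.Lib.RefHull26.Dual
import Groth.Agent.Lib.RefHull26.Algebra
import Groth.Agent.Lib.TensorMod.PullSupport
import Groth.Agent.Lib.TFOne27.Basic
import Groth.Agent.Lib.CurveR1_10.Dim
import Groth.Agent.Lib.H12.Dim
import Groth.Agent.Lib.H12.DimZero

/-!
# Pure sheaves on nodal curves inside direct images from the normalisation
-/

set_option autoImplicit false
set_option linter.style.haveILetI false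
set_option maxHeartbeats 1000000
set_option synthInstance.maxHeartbeats 80000
set_option backward.isDefEq.respectTransparency false
set_option backward.isDefEq.respectTransparency.types false

universe u

open CategoryTheory CategoryTheory.Limits AlgebraicGeometry TopologicalSpace Opposite
open scoped TensorProduct nonZeroDivisors

namespace Groth.Agent.TFNorm27

open Groth.Agent

section Algebra

variable {R M : Type u} [CommRing R] [AddCommGroup M] [Module R M] [Module.Finite R M]

theorem eval_surjective_of_pid [IsDomain R] [IsPrincipalIdealRing R] :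
    Function.Surjective (Module.Dual.eval R M) := by
  intro ξ
  haveI : Module.Free R (M ⧸ Submodule.torsion R M) := Module.free_of_finite_type_torsion_free'
  obtain ⟨q, hq⟩ := (Module.bijective_dual_eval R (M ⧸ Submodule.torsion R M)).2
    (ξ.comp (Submodule.torsion R M).mkQ.dualMap)
  obtain ⟨m, rfl⟩ := Submodule.mkQ_surjective _ q
  refine ⟨m, LinearMap.ext fun φ => ?_⟩
  have hker : Submodule.torsion R M ≤ LinearMap.ker φ := fun t ht => by
    obtain ⟨r, hr⟩ := (Submodule.mem_torsion_iff t).1 ht
    have h1 : (r : R) • φ t = 0 := by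
      rw [← map_smul]
      exact (congrArg φ (show (r : R) • t = 0 from hr)).trans (map_zero φ)
    exact (mul_eq_zero.1 h1).resolve_left (nonZeroDivisors.ne_zero r.2)
  have h := LinearMap.congr_fun hq ((Submodule.torsion R M).liftQ φ hker)
  exact h

theorem free_dual_of_pid [IsDomain R] [IsPrincipalIdealRing R] : Module.Free R (Module.Dual R M) := by
  haveI := RH26.finite_dual (R := R) (M := M)
  exact Module.free_of_finite_type_torsion_free'

theorem eval_injective_of_isField (h : IsField R) : Function.Injective (Module.Dual.eval R M) := by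
  letI := h.toField
  exact Module.eval_apply_injective R

theorem pid_of_normal {R : Type u} [CommRing R] [IsDomain R] [IsLocalRing R] [IsNoetherianRing R]
    [IsIntegrallyClosed R] (h : ringKrullDim R ≤ 1) : IsPrincipalIdealRing R := by
  haveI : Ring.KrullDimLE 1 R := Ring.krullDimLE_iff.2 h
  haveI : Ring.DimensionLEOne R :=
    ⟨fun {p} hp0 hp => Ring.krullDimLE_one_iff_of_noZeroDivisors.1 inferInstance p hp0 hp⟩
  haveI : IsDedekindDomain R := (isDedekindDomain_iff R (FractionRing R)).2
    ⟨inferInstance, inferInstance, inferInstance, fun hx => IsIntegrallyClosed.isIntegral_iff.1 hx⟩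
  infer_instance

theorem one_tmul_bijective {R S M : Type u} [CommRing R] [CommRing S] [Algebra R S] [AddCommGroup M] [Module R M]
    (h : Function.Bijective (algebraMap R S)) : Function.Bijective (fun a : M => (1 : S) ⊗ₜ[R] a) := by
  let e : R ≃ₗ[R] S := LinearEquiv.ofBijective (Algebra.linearMap R S) h
  let E : M ≃ₗ[R] S ⊗[R] M := (TensorProduct.lid R M).symm.trans (TensorProduct.congr e (LinearEquiv.refl R M))
  have hE : (fun a : M => (1 : S) ⊗ₜ[R] a) = E := funext fun a => by
    show _ = TensorProduct.congr e (LinearEquiv.refl R M) ((TensorProduct.lid R M).symm a)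
    rw [TensorProduct.lid_symm_apply, TensorProduct.congr_tmul]
    show _ = algebraMap R S 1 ⊗ₜ[R] a
    rw [map_one]
  rw [hE]
  exact E.bijective

end Algebra

section Bidual

variable {X : Scheme.{u}} [IsLocallyNoetherian X] {F : X.Modules}

theorem exists_bidual_bridge (hF : Coh.IsCoh F) (x : X) :
    ∃ C : Module.Dual (X.presheaf.stalk x) (Module.Dual (X.presheaf.stalk x) (F.presheaf.stalk x)) →
        (RefHull.dual (RefHull.dual F)).presheaf.stalk x, Function.Bijective C ∧
      ∀ v, RefHull.stalkMapₗ (RefHull.bidualMap F) x v =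
        C (Module.Dual.eval (X.presheaf.stalk x) (F.presheaf.stalk x) v) := by
  let C : Module.Dual (X.presheaf.stalk x) (Module.Dual (X.presheaf.stalk x) (F.presheaf.stalk x)) ≃ₗ[X.presheaf.stalk x]
      RefHull.StalkHom (RefHull.dual F) (Coh.structureModule X) x :=
    LinearEquiv.arrowCongr (RH26.dualEquiv hF x).symm (RH26.str x)
  have h1 := RH26.evalStalk_bijective (M1.isFP_of_isCoh (RH26.isCoh_dual hF)) (Coh.structureModule X) x
  let e := LinearEquiv.ofBijective (RefHull.evalStalk (RefHull.dual F) (Coh.structureModule X) x) h1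
  refine ⟨fun w => e.symm (C w), e.symm.bijective.comp C.bijective, fun v => ?_⟩
  refine (LinearEquiv.eq_symm_apply e).2 ?_
  show RefHull.evalStalk (RefHull.dual F) (Coh.structureModule X) x (RefHull.stalkMapₗ (RefHull.bidualMap F) x v) = _
  rw [RH26.evalStalk_bidualMap]
  refine LinearMap.ext fun θ => ?_
  rw [RefHull.bidualAt_apply]
  show _ = RH26.str x (RH26.dualEquiv hF x θ v)
  rw [RH26.dualEquiv_apply, LinearEquiv.apply_symm_apply]

theorem free_stalk_ddual (hF : Coh.IsCoh F) (x : X) [IsDomain (X.presheaf.stalk x)]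
    [IsPrincipalIdealRing (X.presheaf.stalk x)] :
    Module.Free (X.presheaf.stalk x) ((RefHull.dual (RefHull.dual F)).presheaf.stalk x) := by
  haveI := M1.finite_stalk (RH26.isCoh_dual hF).1 (RH26.isCoh_dual hF).2 x
  haveI := free_dual_of_pid (R := X.presheaf.stalk x) (M := (RefHull.dual F).presheaf.stalk x)
  exact Module.Free.of_equiv (RH26.dualEquiv (RH26.isCoh_dual hF) x).symm

end Bidual

section Stalk

variable {X Y : Scheme.{u}} (π : X ⟶ Y) [UniversallyClosed π]

theorem bijective_stalkPush (M : X.Modules) (x : X) (h : ∀ z, π z = π x → z = x) :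
    Function.Bijective (TopCat.Presheaf.stalkPushforward AddCommGrpCat.{u} π.base M.presheaf x) := by
  have hsmall : ∀ (W : X.Opens), x ∈ W → ∃ V : Y.Opens, π x ∈ V ∧ π ⁻¹ᵁ V ≤ W := fun W hW => by
    refine ⟨⟨(π '' (W : Set X)ᶜ)ᶜ, (π.isClosedMap _ W.2.isClosed_compl).isOpen_compl⟩, ?_, fun z hz => ?_⟩
    · rintro ⟨z, hz, he⟩
      exact hz (h z he ▸ hW)
    · by_contra hzW
      exact hz ⟨z, hzW, rfl⟩
  have hg : ∀ (V : Y.Opens) (hV : π x ∈ V) (s : Γ((Scheme.Modules.pushforward π).obj M, V)),
      TopCat.Presheaf.stalkPushforward AddCommGrpCat.{u} π.base M.presheaf x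
          (((Scheme.Modules.pushforward π).obj M).presheaf.germ V (π x) hV s) =
        M.presheaf.germ (π ⁻¹ᵁ V) x hV s := fun V hV s =>
    ConcreteCategory.congr_hom (TopCat.Presheaf.stalkPushforward_germ AddCommGrpCat.{u} π.base M.presheaf V x hV) s
  refine ⟨(injective_iff_map_eq_zero _).2 fun a ha => ?_, fun b => ?_⟩
  · obtain ⟨V, hV, s, rfl⟩ := ((Scheme.Modules.pushforward π).obj M).presheaf.exists_germ_eq a
    rw [hg] at ha
    obtain ⟨W, hW, i₁, _, he⟩ := M.presheaf.germ_eq x (show x ∈ π ⁻¹ᵁ V from hV)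
      (show x ∈ π ⁻¹ᵁ V from hV) s 0 (ha.trans (map_zero _).symm)
    obtain ⟨V', hV', hle⟩ := hsmall W hW
    rw [← M1.germ_mres ((Scheme.Modules.pushforward π).obj M) (inf_le_left : V ⊓ V' ≤ V) (x := π x) ⟨hV, hV'⟩ s,
      show M1.mres ((Scheme.Modules.pushforward π).obj M) (inf_le_left : V ⊓ V' ≤ V) s = 0 from ?_, map_zero]
    show M.presheaf.map (homOfLE (fun z (hz : z ∈ π ⁻¹ᵁ (V ⊓ V')) => (hz.1 : π z ∈ V))).op s = 0
    rw [show (homOfLE (fun z (hz : z ∈ π ⁻¹ᵁ (V ⊓ V')) => (hz.1 : π z ∈ V))).op =
        i₁.op ≫ (homOfLE (fun z (hz : z ∈ π ⁻¹ᵁ (V ⊓ V')) => hle hz.2)).op from Subsingleton.elim _ _,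
      Functor.map_comp, CategoryTheory.comp_apply, he, map_zero, map_zero]
  · obtain ⟨W, hW, t, rfl⟩ := M.presheaf.exists_germ_eq b
    obtain ⟨V, hV, hle⟩ := hsmall W hW
    refine ⟨((Scheme.Modules.pushforward π).obj M).presheaf.germ V (π x) hV (M1.mres M hle t), ?_⟩
    rw [hg]
    exact M1.germ_mres M hle hV t

theorem stalkPush_natural {M N : X.Modules} (φ : M ⟶ N) (x : X)
    (a : ((Scheme.Modules.pushforward π).obj M).presheaf.stalk (π x)) :
    (M1.stalkAb x).map φ (TopCat.Presheaf.stalkPushforward AddCommGrpCat.{u} π.base M.presheaf x a) =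
      TopCat.Presheaf.stalkPushforward AddCommGrpCat.{u} π.base N.presheaf x
        ((M1.stalkAb (π x)).map ((Scheme.Modules.pushforward π).map φ) a) := by
  obtain ⟨U, hU, s, rfl⟩ := ((Scheme.Modules.pushforward π).obj M).presheaf.exists_germ_eq a
  rw [M1.germ_naturality]
  erw [TopCat.Presheaf.stalkPushforward_germ_apply, TopCat.Presheaf.stalkPushforward_germ_apply]
  exact M1.germ_naturality φ (π ⁻¹ᵁ U) x hU s

theorem exists_preimage_of_isIso (W : Y.Opens) [IsIso (π ∣_ W)] {x : Y} (hx : x ∈ W) :
    ∃ z, π z = x ∧ (∀ w, π w = π z → w = z) ∧ Function.Bijective (π.stalkMap z) := by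
  obtain ⟨z, hz⟩ := (π ∣_ W).homeomorph.surjective (⟨x, hx⟩ : W)
  have hzx : π z.1 = x := by
    have h := congrArg Subtype.val (show (π ∣_ W) z = (⟨x, hx⟩ : W) from hz)
    rwa [morphismRestrict_base_coe] at h
  refine ⟨z.1, hzx, fun w hw => ?_, ?_⟩
  · have hwU : w ∈ π ⁻¹ᵁ W := show π w ∈ W by rw [hw]; exact z.2
    have he : (π ∣_ W) ⟨w, hwU⟩ = (π ∣_ W) z := Subtype.ext (by
      rw [morphismRestrict_base_coe, morphismRestrict_base_coe]; exact hw)
    exact congrArg Subtype.val ((π ∣_ W).homeomorph.injective he)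
  · haveI : IsIso ((π ∣_ W).stalkMap z) := inferInstance
    have e := morphismRestrictStalkMap π W z
    have hiso : IsIso (π.stalkMap z.1) :=
      ((MorphismProperty.isomorphisms CommRingCat).arrow_mk_iso_iff e).1
        ((MorphismProperty.isomorphisms.iff _).2 inferInstance) |> (MorphismProperty.isomorphisms.iff _).1
    exact ConcreteCategory.bijective_of_isIso (π.stalkMap z.1)

/-- A morphism with affine preimage inducing bijections on stalks of `O → π_* O` is an isomorphism. -/
theorem isIso_restrict_of_bijective [IsAffineHom π] (W : Y.Opens) (hW : IsAffineOpen W)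
    (h : ∀ y ∈ W, Function.Bijective ((M1.stalkAb y).map (ClSub.unitToPush π))) : IsIso (π ∣_ W) := by
  let SF : TopCat.Sheaf Ab Y := ⟨(Coh.structureModule Y).presheaf, (Coh.structureModule Y).isSheaf⟩
  let SG : TopCat.Sheaf Ab Y := ⟨((Scheme.Modules.pushforward π).obj (Coh.structureModule X)).presheaf,
    ((Scheme.Modules.pushforward π).obj (Coh.structureModule X)).isSheaf⟩
  let φ : SF ⟶ SG := ⟨(ClSub.unitToPush π).mapPresheaf⟩
  have hbij : Function.Bijective (π.app W) :=
    ⟨TopCat.Presheaf.app_injective_of_stalkFunctor_map_injective φ.1 W fun y hy => (h y hy).1,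
      TopCat.Presheaf.app_surjective_of_stalkFunctor_map_bijective φ W h⟩
  haveI : IsAffine W.toScheme := hW
  show MorphismProperty.isomorphisms Scheme (π ∣_ W)
  rw [HasAffineProperty.iff_of_isAffine (P := MorphismProperty.isomorphisms Scheme)]
  refine ⟨hW.preimage π, ?_⟩
  rw [morphismRestrict_appTop]
  have key : ∀ W' : Y.Opens, W' = W → IsIso (π.app W') := by
    rintro _ rfl
    exact (ConcreteCategory.isIso_iff_bijective _).2 hbij
  refine @IsIso.comp_isIso' _ _ _ _ _ _ _ ?_ ?_
  · exact key _ (Scheme.Opens.ι_image_top W)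
  · exact Functor.map_isIso _ _

end Stalk

section Curve

variable (k : Type u) [Field k] [IsAlgClosed k] {C C' : Scheme.{u}} [C.Over (Spec (CommRingCat.of k))]
  [IsProper (C ↘ Spec (CommRingCat.of k))] (π : C' ⟶ C) [IsFinite π]

theorem isCoh_push {M : C'.Modules} [IsNoetherian C] (hM : Coh.IsCoh M) :
    Coh.IsCoh ((Scheme.Modules.pushforward π).obj M) := by
  haveI := NormStalk17.isNoetherian_of_finite π
  haveI : (Scheme.Modules.pushforward π).IsRightAdjoint :=
    (Scheme.Modules.pullbackPushforwardAdjunction π).isRightAdjoint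
  haveI : PreservesFiniteLimits (Scheme.Modules.pushforward π) := inferInstance
  exact CohFound.isCoh_of_iso ((Functor.rightDerivedZeroIsoSelf _).app _) (CohFound.isCoh_rpush π hM 0)

variable (hdim : ∀ Z ∈ irreducibleComponents (C : Type u), topologicalKrullDim Z = 1)
  (hC : Curv2.AtWorstNodal k C) (hC' : Pi1.IsNormalScheme C')
  (U : C.Opens) (hU : Dense (U : Set C)) (hU' : Dense ((π ⁻¹ᵁ U : C'.Opens) : Set C')) [IsIso (π ∣_ U)]

include hdim hC hC' hU hU' in
/-- Away from the nodes the normalisation is an isomorphism. -/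
theorem exists_preimage {x : C} (hx : ¬ Curv2.IsNode k C x) :
    ∃ z, π z = x ∧ (∀ w, π w = π z → w = z) ∧ Function.Bijective (π.stalkMap z) := by
  have hX : StabUniq18.IsNodalCurve k C := ⟨inferInstance, hdim, hC⟩
  haveI := hX.isReduced
  haveI := CohFound.isNoetherian_of_isProper (C ↘ Spec (CommRingCat.of k))
  haveI := NormStalk17.isNoetherian_of_finite π
  have hd : topologicalKrullDim C ≤ 1 :=
    CurveR1_10.topologicalKrullDim_le_of_components fun Z hZ => (hdim Z hZ).le
  have hkey : ∀ y, ∃ e : ((Scheme.Modules.pushforward π).obj (Coh.structureModule C')).presheaf.stalk y →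
      integralClosure (C.presheaf.stalk y) (FractionRing (C.presheaf.stalk y)), Function.Bijective e ∧
      ∀ r, e (CurveCoh17.stalkLin (ClSub.unitToPush π) y (RH26.str y r)) =
        algebraMap (C.presheaf.stalk y) _ r := fun y => by
    obtain ⟨e, he⟩ := NormStalk17.exists_stalk_equiv π hC' U hU hU' y
    refine ⟨e, e.bijective, fun r => ?_⟩
    rw [RH26.str_apply, map_smul, map_smul, Algebra.algebraMap_eq_smul_one]
    exact congrArg (r • ·) he
  have hinj : ∀ y, Function.Injective ((M1.stalkAb y).map (ClSub.unitToPush π)) := fun y a b hab => by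
    obtain ⟨e, he, hkey⟩ := hkey y
    obtain ⟨r, rfl⟩ := (RH26.str y).surjective a
    obtain ⟨s, rfl⟩ := (RH26.str y).surjective b
    have h1 := congrArg Subtype.val (((hkey r).symm.trans (congrArg e hab)).trans (hkey s))
    exact congrArg _ (IsFractionRing.injective (C.presheaf.stalk y) (FractionRing (C.presheaf.stalk y)) h1)
  have hsurj : Function.Surjective ((M1.stalkAb x).map (ClSub.unitToPush π)) := by
    by_cases hxc : IsClosed ({x} : Set C)
    · obtain ⟨e, he, hkey⟩ := hkey x
      intro b
      obtain ⟨r, hr⟩ := StabUniq18.surjective_of_regular hX hxc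
        (StabUniq18.regular_of_smooth_nbhd ((hC x hxc).resolve_right hx)) (e b)
      exact ⟨RH26.str x r, he.1 ((hkey r).trans hr)⟩
    · exact CurveCoh17.surjective_stalkLin_unitToPush π U
        (CurveCoh17.mem_of_dense_of_maximal hU fun y hy => Curve17.eq_of_specializes hd hxc hy)
  let Q := cokernel (ClSub.unitToPush π)
  have hQ : Coh.IsCoh Q := M1.isCoh_cokernel (CurveCoh17.isCoh_structureModule (X := C)).1
    (isCoh_push π CurveCoh17.isCoh_structureModule) _
  have hxQ : x ∉ CohB1.support Q := fun h => by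
    obtain ⟨a, ha⟩ := (M1.mem_support_iff Q x).1 h
    exact ha (CurveCoh17.eq_zero_stalk_cokernel (ClSub.unitToPush π) x hsurj a)
  obtain ⟨_, ⟨W, hW, rfl⟩, hxW, hWQ⟩ := C.isBasis_affineOpens.exists_subset_of_mem_open
    (show x ∈ (CohB1.support Q)ᶜ from hxQ) (M1.isClosed_support hQ.2).isOpen_compl
  haveI := isIso_restrict_of_bijective π W hW fun y hy => ⟨hinj y, fun b => by
    have hb : (M1.stalkAb y).map (cokernel.π (ClSub.unitToPush π)) b = 0 :=
      CurveCoh17.stalk_eq_zero_of_notMem_support (hWQ hy) _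
    exact (M1.exact_iff_stalk_eq_zero (ShortComplex.mk _ (cokernel.π (ClSub.unitToPush π)) (cokernel.condition _))).1
      (ShortComplex.exact_cokernel _) y b hb⟩
  exact exists_preimage_of_isIso π W hxW

include hdim hC hC' hU hU' in
theorem exists_mono {F : C.Modules} (hF : Coh.IsCoh F) (hpure : ShStab.IsPure C F 1) :
    ∃ (F' : C'.Modules) (f : F ⟶ (Scheme.Modules.pushforward π).obj F'),
      Coh.IsCoh F' ∧ FlatMod.IsFinLocFree F' ∧ Mono f ∧
        CohB1.support (cokernel f) ⊆ {x : C | Curv2.IsNode k C x} := by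
  classical
  have hX : StabUniq18.IsNodalCurve k C := ⟨inferInstance, hdim, hC⟩
  haveI := hX.isReduced
  haveI := CohFound.isNoetherian_of_isProper (C ↘ Spec (CommRingCat.of k))
  haveI := NormStalk17.isNoetherian_of_finite π
  have hd : topologicalKrullDim C ≤ 1 :=
    CurveR1_10.topologicalKrullDim_le_of_components fun Z hZ => (hdim Z hZ).le
  have hd' : topologicalKrullDim C' ≤ 1 := (H12.topologicalKrullDim_le_of_eq_of_specializes π π.continuous
    fun a b h e => H12.eq_of_specializes_of_isIntegralHom π h e).trans hd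
  let G := (Scheme.Modules.pullback π).obj F
  have hG : Coh.IsCoh G := M1.isCoh_pullback π hF
  let F' := RefHull.dual (RefHull.dual G)
  have hF' : Coh.IsCoh F' := RH26.isCoh_dual (RH26.isCoh_dual hG)
  let adj := Scheme.Modules.pullbackPushforwardAdjunction π
  let v : F ⟶ (Scheme.Modules.pushforward π).obj F' :=
    adj.unit.app F ≫ (Scheme.Modules.pushforward π).map (RefHull.bidualMap G)
  have hdom : ∀ z : C', IsDomain (C'.presheaf.stalk z) ∧ IsPrincipalIdealRing (C'.presheaf.stalk z) := fun z => by
    haveI := (hC' z).1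
    haveI := (hC' z).2
    exact ⟨inferInstance, pid_of_normal ((VB17.ringKrullDim_stalk_le_topologicalKrullDim z).trans hd')⟩
  have hloc : FlatMod.IsFinLocFree F' := (M1.isFinLocFree_iff F').2 ⟨M1.isFP_of_isCoh hF', fun z => by
    haveI := (hdom z).1
    haveI := (hdom z).2
    exact free_stalk_ddual hG z⟩
  have hstalk : ∀ z : C', (∀ w, π w = π z → w = z) → Function.Bijective (π.stalkMap z) →
      Function.Surjective ((M1.stalkAb (π z)).map v) ∧
        (IsField (C'.presheaf.stalk z) → Function.Injective ((M1.stalkAb (π z)).map v)) := by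
    intro z huniq hbij
    haveI := (hdom z).1
    haveI := (hdom z).2
    haveI := M1.finite_stalk hG.1 hG.2 z
    obtain ⟨c, hc, hev⟩ := exists_bidual_bridge hG z
    have hp := bijective_stalkPush π F' z huniq
    have hs : ∀ a, TopCat.Presheaf.stalkPushforward AddCommGrpCat.{u} π.base F'.presheaf z ((M1.stalkAb (π z)).map v a) =
        c (Module.Dual.eval (C'.presheaf.stalk z) (G.presheaf.stalk z) (M2.pullStalkEquiv π z F (1 ⊗ₜ a))) := fun a => by
      rw [← hev, Functor.map_comp, CategoryTheory.comp_apply]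
      refine (stalkPush_natural π (RefHull.bidualMap G) z _).symm.trans ?_
      refine congrArg ((M1.stalkAb z).map (RefHull.bidualMap G)) ?_
      show _ = M2.pullStalkMap π z F (1 ⊗ₜ a)
      rw [M2.pullStalkMap, LinearMap.liftBaseChange_one_tmul]
      rfl
    have h1 : Function.Bijective (fun a => M2.pullStalkEquiv π z F (1 ⊗ₜ a)) :=
      (M2.pullStalkEquiv π z F).bijective.comp (one_tmul_bijective hbij)
    refine ⟨fun b => ?_, fun hfield a a' h => ?_⟩
    · obtain ⟨w, hw⟩ := hc.2 (TopCat.Presheaf.stalkPushforward AddCommGrpCat.{u} π.base F'.presheaf z b)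
      obtain ⟨m, rfl⟩ := eval_surjective_of_pid (R := C'.presheaf.stalk z) (M := G.presheaf.stalk z) w
      obtain ⟨a, rfl⟩ := h1.2 m
      exact ⟨a, hp.1 ((hs a).trans hw)⟩
    · refine h1.1 (eval_injective_of_isField hfield (hc.1 ?_))
      rw [← hs, ← hs, h]
  haveI : Mono v := by
    have hK : Coh.IsCoh (kernel v) := CurveCoh17.isCoh_kernel hF (isCoh_push π hF').1 v
    obtain ⟨S, hS⟩ := CurveCoh17.exists_suppIn_of_maximal hd hK fun g hg a => by
      have hgU : g ∈ U := CurveCoh17.mem_of_dense_of_maximal hU hg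
      obtain ⟨z, rfl, huniq, hbij⟩ := exists_preimage_of_isIso π U hgU
      exact CurveCoh17.eq_zero_stalk_kernel v (π z) ((hstalk z huniq hbij).2
        ((RingEquiv.ofBijective (π.stalkMap z).hom hbij).symm.toMulEquiv.isField
          (GenericZero.isField_stalk_of_maxPt hg))) a
    have h0 : IsZero (kernel v) := by
      by_contra hne
      have h1 := hpure (kernel v) (kernel.ι v) inferInstance hK hne
      have hsub : CohB1.support (kernel v) ⊆ (S : Set C) := fun y hy => by
        by_contra hyS
        obtain ⟨a, ha⟩ := (M1.mem_support_iff _ y).1 hy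
        exact ha (hS.zero y (fun h => hyS (Finset.mem_coe.2 h)) a)
      haveI : Finite (CohB1.support (kernel v)) := (S.finite_toSet.subset hsub).to_subtype
      haveI : T1Space (CohB1.support (kernel v)) := ⟨fun p => by
        have hp : IsClosed ({(p : C)} : Set C) := hS.closed p.1 (Finset.mem_coe.1 (hsub p.2))
        convert hp.preimage continuous_subtype_val using 1
        ext q
        simp [Subtype.ext_iff]⟩
      have h2 := h1.symm.trans_le ((topologicalKrullDim_zero_of_discreteTopology _).trans le_rfl)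
      exact absurd h2 (by norm_num)
    exact Preadditive.mono_of_kernel_zero (h0.eq_of_src (kernel.ι v) 0)
  refine ⟨F', v, hF', hloc, inferInstance, fun x hx => ?_⟩
  by_contra hn
  obtain ⟨z, rfl, huniq, hbij⟩ := exists_preimage k π hdim hC hC' U hU hU' hn
  obtain ⟨a, ha⟩ := (M1.mem_support_iff _ _).1 hx
  exact ha (CurveCoh17.eq_zero_stalk_cokernel v (π z) (hstalk z huniq hbij).1 a)

end Curve

end Groth.Agent.TFNorm27
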